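import Mathlib

/-! Counting points of a finite extension after base change to an algebraic closure. -/

set_option autoImplicit false
universe u

open TensorProduct

namespace Groth.Agent.VarH0x75

variable (k L K : Type u) [Field k] [Field L] [Algebra k L] [Module.Finite k L] [Field K] [Algebra k K]
  [IsAlgClosed K]

theorem hom_apply_eq_of_ker_eq {B : Type u} [CommRing B] [Algebra K B] (Φ Ψ : B →ₐ[K] K)
    (h : RingHom.ker Φ = RingHom.ker Ψ) : Φ = Ψ := by
  refine AlgHom.ext fun b => ?_
  have h1 : b - algebraMap K B (Φ b) ∈ RingHom.ker Φ := by simp [RingHom.mem_ker]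
  rw [h, RingHom.mem_ker] at h1
  rw [map_sub, AlgHom.commutes] at h1
  exact (sub_eq_zero.1 h1).symm

/-- An idempotent-free base change has one point. -/
theorem isPurelyInseparable_of_idempotents [Algebra.IsAlgebraic k K]
    (h : ∀ e : K ⊗[k] L, e * e = e → e = 0 ∨ e = 1) : IsPurelyInseparable k L := by
  haveI : IsArtinianRing (K ⊗[k] L) := IsArtinianRing.of_finite K _
  have key : ∀ φ ψ : L →ₐ[k] K, φ = ψ := by
    intro φ ψ
    let Φ : K ⊗[k] L →ₐ[K] K := Algebra.TensorProduct.lift (Algebra.ofId K K) φ fun _ _ => mul_comm _ _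
    let Ψ : K ⊗[k] L →ₐ[K] K := Algebra.TensorProduct.lift (Algebra.ofId K K) ψ fun _ _ => mul_comm _ _
    have hm : ∀ Θ : K ⊗[k] L →ₐ[K] K, (RingHom.ker Θ).IsMaximal := fun Θ =>
      RingHom.ker_isMaximal_of_surjective Θ fun c => ⟨algebraMap K _ c, Θ.commutes c⟩
    have : RingHom.ker Φ = RingHom.ker Ψ := by
      by_contra hne
      let p : PrimeSpectrum (K ⊗[k] L) := ⟨_, (hm Φ).isPrime⟩
      let q : PrimeSpectrum (K ⊗[k] L) := ⟨_, (hm Ψ).isPrime⟩
      obtain ⟨e, he, hpe⟩ := PrimeSpectrum.isClopen_iff.1 (isClopen_discrete ({p} : Set (PrimeSpectrum (K ⊗[k] L))))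
      rcases h e he with rfl | rfl
      · simpa using hpe.le (Set.mem_singleton p)
      · have hq : q ∈ ({p} : Set (PrimeSpectrum (K ⊗[k] L))) := hpe.ge (by simp)
        exact hne (congrArg PrimeSpectrum.asIdeal (Set.mem_singleton_iff.1 hq)).symm
    have hΦΨ := hom_apply_eq_of_ker_eq K Φ Ψ this
    refine AlgHom.ext fun l => ?_
    simpa [Φ, Ψ] using congr($hΦΨ (1 ⊗ₜ l))
  haveI : Algebra.IsAlgebraic k L := Algebra.IsAlgebraic.of_finite k L
  haveI : IsAlgClosure k K := ⟨inferInstance, inferInstance⟩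
  rw [isPurelyInseparable_iff_finSepDegree_eq_one,
    Field.finSepDegree_eq_of_isAlgClosed k L K, Nat.card_eq_one_iff_unique]
  exact ⟨⟨key⟩, ⟨IsAlgClosed.lift⟩⟩

/-- A reduced base change has as many points as the degree. -/
theorem isSeparable_of_isReduced [IsReduced (K ⊗[k] L)] : Algebra.IsSeparable k L := by
  haveI : IsArtinianRing (K ⊗[k] L) := IsArtinianRing.of_finite K _
  haveI : Finite (L →ₐ[k] K) := inferInstance
  haveI := Fintype.ofFinite (L →ₐ[k] K)
  let T : K ⊗[k] L →ₗ[K] ((L →ₐ[k] K) → K) := LinearMap.pi fun φ =>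
    (Algebra.TensorProduct.lift (Algebra.ofId K K) φ fun _ _ => mul_comm _ _).toLinearMap
  have hinj : Function.Injective T := by
    rw [← LinearMap.ker_eq_bot, Submodule.eq_bot_iff]
    intro b hb
    refine (IsNilpotent.eq_zero (?_ : IsNilpotent b))
    rw [nilpotent_iff_mem_prime]
    intro P hP
    haveI : P.IsPrime := hP
    haveI : P.IsMaximal := IsArtinianRing.isMaximal_of_isPrime P
    let := Ideal.Quotient.field P
    haveI : Algebra.IsAlgebraic K ((K ⊗[k] L) ⧸ P) := Algebra.IsAlgebraic.of_finite K _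
    have hbij := IsAlgClosed.algebraMap_bijective_of_isIntegral (k := K) (K := (K ⊗[k] L) ⧸ P)
    let π : K ⊗[k] L →ₐ[K] K :=
      (AlgEquiv.ofBijective (Algebra.ofId K _) hbij).symm.toAlgHom.comp (Ideal.Quotient.mkₐ K P)
    let φ : L →ₐ[k] K := (π.restrictScalars k).comp Algebra.TensorProduct.includeRight
    have hπ : π = Algebra.TensorProduct.lift (Algebra.ofId K K) φ fun _ _ => mul_comm _ _ := by
      refine Algebra.TensorProduct.ext (AlgHom.ext fun c => ?_) (AlgHom.ext fun l => ?_)
      · change π (algebraMap K _ c) = _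
        rw [AlgHom.commutes]
        simp
      · simp [φ]
    have h0 : π b = 0 := by
      rw [hπ]
      exact congr_fun (LinearMap.mem_ker.1 hb) φ
    have h1 : Ideal.Quotient.mk P b = 0 := by
      have := congrArg (AlgEquiv.ofBijective (Algebra.ofId K _) hbij) h0
      simpa [π] using this
    exact Ideal.Quotient.eq_zero_iff_mem.1 h1
  have hle := LinearMap.finrank_le_finrank_of_injective hinj
  rw [Module.finrank_baseChange, Module.finrank_pi, Fintype.card_eq_nat_card] at hle
  refine (Field.finSepDegree_eq_finrank_iff k L).1 (le_antisymm ?_ ?_)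
  · exact Nat.le_of_dvd Module.finrank_pos (Field.finSepDegree_dvd_finrank k L)
  · haveI : Algebra.IsAlgebraic k L := Algebra.IsAlgebraic.of_finite k L
    rwa [Field.finSepDegree_eq_of_isAlgClosed k L K]

end Groth.Agent.VarH0x75
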