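import Groth.Agent.AbSch7.FieldH0
import Groth.Agent.VarH0x75.Count

/-! Global functions of proper schemes after base change to an algebraic closure. -/

set_option autoImplicit false
universe u

open CategoryTheory CategoryTheory.Limits AlgebraicGeometry TensorProduct

namespace Groth.Agent.VarH0x75

theorem idempotent_trivial {Y : Scheme.{u}} [PreconnectedSpace Y] (e : Γ(Y, ⊤)) (he : e * e = e) :
    e = 0 ∨ e = 1 := by
  have hcover : Y.basicOpen e ⊔ Y.basicOpen (1 - e) = ⊤ := by
    refine top_le_iff.1 fun x _ => ?_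
    rw [TopologicalSpace.Opens.mem_sup, Scheme.mem_basicOpen_top, Scheme.mem_basicOpen_top, map_sub,
      map_one]
    exact IsLocalRing.isUnit_or_isUnit_one_sub_self _
  have hinf : Y.basicOpen e ⊓ Y.basicOpen (1 - e) = ⊥ := by
    rw [← Scheme.basicOpen_mul, mul_sub, mul_one, he, sub_self, Scheme.basicOpen_zero]
  have hcl : IsClopen (Y.basicOpen e : Set Y) := by
    refine ⟨?_, (Y.basicOpen e).2⟩
    have : (Y.basicOpen e : Set Y) = (Y.basicOpen (1 - e) : Set Y)ᶜ := by
      ext x
      constructor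
      · intro hx hx'
        exact (SetLike.ext_iff.1 hinf x).1 ⟨hx, hx'⟩
      · intro hx
        rcases (SetLike.ext_iff.1 hcover x).2 trivial with h | h
        · exact h
        · exact absurd h hx
    rw [this]
    exact (Y.basicOpen (1 - e)).2.isClosed_compl
  -- an idempotent which is a unit in no stalk vanishes
  have hz : ∀ f : Γ(Y, ⊤), f * f = f → Y.basicOpen f = ⊥ → f = 0 := fun f hf hb => by
    refine TopCat.Presheaf.section_ext Y.sheaf ⊤ f 0 fun x hx => ?_
    have hlt : IsUnit (1 - Y.presheaf.germ ⊤ x hx f) := by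
      refine (IsLocalRing.isUnit_or_isUnit_one_sub_self _).resolve_left fun hu => ?_
      exact (hb.le ((Y.mem_basicOpen f x hx).2 hu) : x ∈ (⊥ : Y.Opens)).elim
    have h0 : Y.presheaf.germ ⊤ x hx f = 0 := by
      refine hlt.mul_right_eq_zero.1 ?_
      rw [sub_mul, one_mul, ← map_mul, hf, sub_self]
    exact h0.trans (map_zero _).symm
  rcases isClopen_iff.1 hcl with h | h
  · exact Or.inl (hz e he (TopologicalSpace.Opens.ext h))
  · refine Or.inr (sub_eq_zero.1 (hz (1 - e) ?_ ?_)).symm
    · rw [mul_sub, sub_mul, sub_mul, he]; ring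
    · rw [← hinf, show Y.basicOpen e = ⊤ from TopologicalSpace.Opens.ext h, top_inf_eq]

variable (k : Type u) [Field k] (K : Type u) [Field K] [Algebra k K] {X : Scheme.{u}}
  (f : X ⟶ Spec (CommRingCat.of k))

/-- The field extension as a morphism of spectra. -/
noncomputable abbrev fieldMap : Spec (CommRingCat.of K) ⟶ Spec (CommRingCat.of k) :=
  Spec.map (CommRingCat.ofHom (algebraMap k K))

/-- Global functions of the base change. -/
theorem nonempty_tensor_equiv [QuasiCompact f] [QuasiSeparated f] :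
    letI := (f.appTop.hom.comp (Scheme.ΓSpecIso (CommRingCat.of k)).inv.hom : k →+* Γ(X, ⊤)).toAlgebra
    Nonempty (K ⊗[k] Γ(X, ⊤) ≃+* Γ(pullback f (fieldMap k K), ⊤)) := by
  let g := fieldMap k K
  have : Flat g := (HasRingHomProperty.Spec_iff (P := @Flat)).2 (RingHom.flat_algebraMap_iff.2 inferInstance)
  have H := IsPullback.of_hasPullback f g
  have : CompactSpace X := QuasiCompact.compactSpace_of_compactSpace f
  have : QuasiSeparatedSpace X := quasiSeparatedSpace_of_quasiSeparated f
  have hiso := isIso_pushoutSection_of_isQuasiSeparated_of_flat_right (US := ⊤) (UT := ⊤) (UX := ⊤)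
    (UY := ⊤) H (by simp) (by simp) (by simp) (isAffineOpen_top _) (isAffineOpen_top _)
    (by simpa using isCompact_univ) (by simpa using isQuasiSeparated_univ)
  have hp := (isIso_pushoutSection_iff ..).1 hiso
  have hp' : IsPushout f.appTop g.appTop (pullback.fst f g).appTop (pullback.snd f g).appTop := by
    rw [← AbSch7.appLE_top f (by simp), ← AbSch7.appLE_top g (by simp),
      ← AbSch7.appLE_top (pullback.fst f g) (by simp), ← AbSch7.appLE_top (pullback.snd f g) (by simp)]
    exact hp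
  let σ : CommRingCat.of k ⟶ Γ(X, ⊤) := (Scheme.ΓSpecIso (CommRingCat.of k)).inv ≫ f.appTop
  let τ : CommRingCat.of K ⟶ Γ(pullback f g, ⊤) :=
    (Scheme.ΓSpecIso (CommRingCat.of K)).inv ≫ (pullback.snd f g).appTop
  have hq : IsPushout σ (CommRingCat.ofHom (algebraMap k K)) (pullback.fst f g).appTop τ := by
    refine hp'.of_iso (Scheme.ΓSpecIso (CommRingCat.of k)) (Iso.refl _) (Scheme.ΓSpecIso (CommRingCat.of K))
      (Iso.refl _) ?_ ?_ ?_ ?_
    · simp [σ]
    · exact Scheme.ΓSpecIso_naturality _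
    · simp
    · simp [τ]
  letI : Algebra k Γ(X, ⊤) := σ.hom.toAlgebra
  letI : Algebra Γ(X, ⊤) Γ(pullback f g, ⊤) := (pullback.fst f g).appTop.hom.toAlgebra
  letI : Algebra K Γ(pullback f g, ⊤) := τ.hom.toAlgebra
  letI : Algebra k Γ(pullback f g, ⊤) := ((pullback.fst f g).appTop.hom.comp σ.hom).toAlgebra
  haveI : IsScalarTower k Γ(X, ⊤) Γ(pullback f g, ⊤) := IsScalarTower.of_algebraMap_eq' rfl
  haveI : IsScalarTower k K Γ(pullback f g, ⊤) :=
    IsScalarTower.of_algebraMap_eq' (congrArg CommRingCat.Hom.hom hq.w)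
  have hpush : Algebra.IsPushout k K Γ(X, ⊤) Γ(pullback f g, ⊤) :=
    CommRingCat.isPushout_iff_isPushout.1 hq.flip
  exact ⟨(Algebra.IsPushout.equiv k K Γ(X, ⊤) Γ(pullback f g, ⊤)).toRingEquiv⟩

variable [IsProper f]

theorem isSeparable_global [GeometricallyReduced f] (hK : IsField Γ(X, ⊤)) :
    letI := (f.appTop.hom.comp (Scheme.ΓSpecIso (CommRingCat.of k)).inv.hom : k →+* Γ(X, ⊤)).toAlgebra
    Module.Finite k Γ(X, ⊤) → Algebra.IsSeparable k Γ(X, ⊤) := by
  intro hfin
  letI := hK.toField
  letI : Algebra k Γ(X, ⊤) := (f.appTop.hom.comp (Scheme.ΓSpecIso (CommRingCat.of k)).inv.hom : k →+* Γ(X, ⊤)).toAlgebra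
  haveI : Module.Finite k Γ(X, ⊤) := hfin
  obtain ⟨e⟩ := nonempty_tensor_equiv k (AlgebraicClosure k) f
  have : IsReduced (pullback f (fieldMap k (AlgebraicClosure k))) :=
    GeometricallyReduced.geometrically_isReduced _ _ _ (IsPullback.of_hasPullback f _)
  haveI : IsReduced (AlgebraicClosure k ⊗[k] Γ(X, ⊤)) :=
    isReduced_of_injective e.toRingHom e.injective
  exact isSeparable_of_isReduced k Γ(X, ⊤) (AlgebraicClosure k)

theorem isPurelyInseparable_global [GeometricallyIrreducible f] (hK : IsField Γ(X, ⊤)) :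
    letI := (f.appTop.hom.comp (Scheme.ΓSpecIso (CommRingCat.of k)).inv.hom : k →+* Γ(X, ⊤)).toAlgebra
    Module.Finite k Γ(X, ⊤) → IsPurelyInseparable k Γ(X, ⊤) := by
  intro hfin
  letI := hK.toField
  letI : Algebra k Γ(X, ⊤) := (f.appTop.hom.comp (Scheme.ΓSpecIso (CommRingCat.of k)).inv.hom : k →+* Γ(X, ⊤)).toAlgebra
  haveI : Module.Finite k Γ(X, ⊤) := hfin
  obtain ⟨e⟩ := nonempty_tensor_equiv k (AlgebraicClosure k) f
  haveI : IrreducibleSpace ↥(pullback f (fieldMap k (AlgebraicClosure k))) :=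
    GeometricallyIrreducible.geometrically_irreducibleSpace _ _ _ (IsPullback.of_hasPullback f _)
  refine isPurelyInseparable_of_idempotents k Γ(X, ⊤) (AlgebraicClosure k) fun a ha => ?_
  rcases idempotent_trivial (e a) (by rw [← map_mul, ha]) with h | h
  · exact Or.inl (e.injective (h.trans (map_zero e).symm))
  · exact Or.inr (e.injective (h.trans (map_one e).symm))

end Groth.Agent.VarH0x75
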